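import Mathlib.AlgebraicGeometry.Geometrically.Reduced
import Mathlib.AlgebraicGeometry.IdealSheaf.Functorial
import Mathlib.AlgebraicGeometry.Morphisms.ClosedImmersion
import Mathlib.LinearAlgebra.TensorProduct.Basis
import Mathlib.RingTheory.Localization.BaseChange
import Groth.Agent.L06.NormalTensorDomains
import Groth.Agent.L16.SectionExtend
import Groth.Agent.L18.KerReduced

/-! The maximal geometrically reduced closed subscheme with the same separable points. -/

set_option autoImplicit false
set_option linter.style.haveILetI false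
set_option backward.isDefEq.respectTransparency.types false

universe u

open CategoryTheory CategoryTheory.Limits AlgebraicGeometry TopologicalSpace TensorProduct

namespace Groth.L13.GeomRedSub

variable (k : Type u) [Field k]

/-- Tensoring with any field over `k` gives a reduced ring. -/
def Good (E : Type u) [CommRing E] [Algebra k E] : Prop :=
  ∀ (K : Type u) [Field K] [Algebra k K], _root_.IsReduced (E ⊗[k] K)

variable {k}

theorem Good.of_injective {A B : Type u} [CommRing A] [CommRing B] [Algebra k A] [Algebra k B]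
    (f : A →ₐ[k] B) (hf : Function.Injective f) (h : Good k B) : Good k A := fun K _ _ => by
  haveI := h K
  exact isReduced_of_injective (Algebra.TensorProduct.map f (AlgHom.id k K))
    (Module.Flat.rTensor_preserves_injective_linearMap f.toLinearMap hf)

theorem good_of_separating {A : Type u} [CommRing A] [Algebra k A] {ι : Type u} (L : ι → Type u)
    [∀ i, CommRing (L i)] [∀ i, Algebra k (L i)] (hL : ∀ i, Good k (L i)) (ρ : ∀ i, A →ₐ[k] L i)
    (hρ : ∀ a, (∀ i, ρ i a = 0) → a = 0) : Good k A := fun K _ _ => by
  refine ⟨fun z hz => ?_⟩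
  haveI := fun i => hL i K
  let b := Module.Free.chooseBasis k K
  have h0 : ∀ i, Algebra.TensorProduct.map (ρ i) (AlgHom.id k K) z = 0 := fun i =>
    (hz.map (Algebra.TensorProduct.map (ρ i) (AlgHom.id k K))).eq_zero
  have hc : ∀ i (w : A ⊗[k] K) j, TensorProduct.equivFinsuppOfBasisRight b
      (Algebra.TensorProduct.map (ρ i) (AlgHom.id k K) w) j = ρ i (TensorProduct.equivFinsuppOfBasisRight b w j) := by
    intro i w j
    induction w using TensorProduct.induction_on with
    | zero => simp
    | tmul a c => simp [TensorProduct.equivFinsuppOfBasisRight_apply_tmul_apply]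
    | add x y hx hy => simp only [map_add, Finsupp.add_apply, hx, hy]
  apply (TensorProduct.equivFinsuppOfBasisRight b).injective
  rw [map_zero]
  ext j
  refine hρ _ fun i => ?_
  rw [← hc, h0, map_zero]
  rfl

theorem Good.of_isLocalization {A E : Type u} [CommRing A] [CommRing E] [Algebra k A] [Algebra k E] [Algebra A E]
    [IsScalarTower k A E] (M : Submonoid A) [IsLocalization M E] (h : Good k A) : Good k E := fun K _ _ => by
  haveI := h K
  let B := A ⊗[k] K
  let T := E ⊗[A] B
  letI : Algebra B T := Algebra.TensorProduct.rightAlgebra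
  haveI : IsLocalization (Algebra.algebraMapSubmonoid B M) T := inferInstance
  haveI : _root_.IsReduced T := isReduced_localizationPreserves (Algebra.algebraMapSubmonoid B M) T inferInstance
  exact isReduced_of_injective (Algebra.TensorProduct.cancelBaseChange k A E E K).symm.toAlgHom
    (Algebra.TensorProduct.cancelBaseChange k A E E K).symm.injective

variable {X : Scheme.{u}} (f : X ⟶ Spec (CommRingCat.of k))

/-- The structure map of the residue field at `p`. -/
noncomputable def kappaMap (p : X) : CommRingCat.of k ⟶ X.residueField p :=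
  Spec.preimage (X.fromSpecResidueField p ≫ f)

/-- The points with separable residue field. -/
def sepPts : Set X :=
  {p | letI : Algebra k (X.residueField p) := (kappaMap f p).hom.toAlgebra; Good k (X.residueField p)}

theorem mem_sepPts_of_map {p : X} (E : CommRingCat.{u}) [Algebra k E] [Nontrivial E] (φ : X.residueField p ⟶ E)
    (h : Spec.map φ ≫ X.fromSpecResidueField p ≫ f = Spec.map (CommRingCat.ofHom (algebraMap k E))) (hE : Good k E) :
    p ∈ sepPts f := by
  letI : Algebra k (X.residueField p) := (kappaMap f p).hom.toAlgebra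
  have h1 : kappaMap f p ≫ φ = CommRingCat.ofHom (algebraMap k E) := by
    apply Spec.map_injective
    rw [Spec.map_comp, kappaMap, Spec.map_preimage]
    exact h
  let φa : X.residueField p →ₐ[k] E :=
    { φ.hom with commutes' := fun r => DFunLike.congr_fun (congrArg CommRingCat.Hom.hom h1) r }
  exact Good.of_injective φa φ.hom.injective hE

theorem mem_sepPts_closedPoint (K : Type u) [Field K] [Algebra k K] (g : Spec (CommRingCat.of K) ⟶ X)
    (hg : g ≫ f = Spec.map (CommRingCat.ofHom (algebraMap k K))) (hK : Good k K) :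
    ∀ q, g q ∈ sepPts f := by
  intro q
  obtain ⟨⟨p, φ⟩, hp⟩ := (Scheme.SpecToEquivOfField K X).symm.surjective g
  change Spec.map φ ≫ X.fromSpecResidueField p = g at hp
  subst hp
  rw [Scheme.Hom.comp_apply, Scheme.fromSpecResidueField_apply]
  exact mem_sepPts_of_map f (CommRingCat.of K) φ (by rw [← Category.assoc]; exact hg) hK

theorem bijective_residueFieldMap {Z : Scheme.{u}} (z : Z ⟶ X) [IsClosedImmersion z] (u : Z) :
    Function.Bijective (z.residueFieldMap u).hom := by
  refine ⟨(z.residueFieldMap u).hom.injective, fun c => ?_⟩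
  obtain ⟨s, rfl⟩ := Z.residue_surjective u c
  obtain ⟨t, rfl⟩ := z.stalkMap_surjective u s
  exact ⟨X.residue (z u) t, rfl⟩

/-- The structure map on the sections over an affine open. -/
noncomputable def sectMap {Z : Scheme.{u}} (g : Z ⟶ Spec (CommRingCat.of k)) {U : Z.Opens} (hU : IsAffineOpen U) :
    CommRingCat.of k ⟶ Γ(Z, U) :=
  Spec.preimage (hU.fromSpec ≫ g)

theorem sectMap_evaluation {Z : Scheme.{u}} (g : Z ⟶ Spec (CommRingCat.of k)) {U : Z.Opens} (hU : IsAffineOpen U)
    (u : Z) (hu : u ∈ U) : sectMap g hU ≫ Z.evaluation U u hu = kappaMap g u := by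
  apply Spec.map_injective
  rw [Spec.map_comp, sectMap, kappaMap, Spec.map_preimage, Spec.map_preimage, Scheme.fromSpecResidueField,
    Scheme.evaluation, Spec.map_comp, ← hU.fromSpecStalk_eq_fromSpecStalk hu, IsAffineOpen.fromSpecStalk]
  simp only [Category.assoc]

theorem geometricallyReduced_of_good {Z : Scheme.{u}} (g : Z ⟶ Spec (CommRingCat.of k))
    (h : ∀ (U : Z.Opens) (hU : IsAffineOpen U),
      letI : Algebra k Γ(Z, U) := (sectMap g hU).hom.toAlgebra; Good k Γ(Z, U)) :
    GeometricallyReduced g := by
  refine ⟨geometrically_iff_of_isClosedUnderIsomorphisms.mpr fun K _ y => ?_⟩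
  apply +allowSynthFailures @IsReduced.of_openCover (𝒰 := Scheme.Pullback.openCoverOfLeft Z.affineCover g y)
  intro i
  letI : Algebra k K := (Spec.preimage y).hom.toAlgebra
  let U := (Z.affineCover.f i).opensRange
  have hU : IsAffineOpen U := isAffineOpen_opensRange _
  letI : Algebra k Γ(Z, U) := (sectMap g hU).hom.toAlgebra
  haveI := h U hU K
  haveI : IsReduced (Spec (CommRingCat.of (Γ(Z, U) ⊗[k] K))) := inferInstance
  let e0 := IsOpenImmersion.isoOfRangeEq (Z.affineCover.f i) hU.fromSpec (by rw [hU.range_fromSpec]; rfl)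
  have he0 : e0.hom ≫ hU.fromSpec = Z.affineCover.f i := IsOpenImmersion.isoOfRangeEq_hom_fac _ _ _
  have hy : Spec.map (CommRingCat.ofHom (algebraMap k K)) = y := Spec.map_preimage y
  have hg : Spec.map (CommRingCat.ofHom (algebraMap k Γ(Z, U))) = hU.fromSpec ≫ g := Spec.map_preimage _
  have P := isPullback_SpecMap_of_isPushout _ _ _ _ (CommRingCat.isPushout_tensorProduct k Γ(Z, U) K)
  rw [hy, hg] at P
  have P2 : IsPullback (pullback.fst (Z.affineCover.f i ≫ g) y ≫ e0.hom) (pullback.snd _ _) (hU.fromSpec ≫ g) y :=
    (IsPullback.of_hasPullback _ _).of_iso (Iso.refl _) e0 (Iso.refl _) (Iso.refl _) (by simp) (by simp)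
      (by simp [← he0]) (by simp)
  exact isReduced_of_isOpenImmersion (P2.isoIsPullback _ _ P).hom

theorem good_of_geometricallyReduced {Z : Scheme.{u}} (g : Z ⟶ Spec (CommRingCat.of k)) [GeometricallyReduced g]
    {U : Z.Opens} (hU : IsAffineOpen U) :
    letI : Algebra k Γ(Z, U) := (sectMap g hU).hom.toAlgebra
    Good k Γ(Z, U) := by
  letI : Algebra k Γ(Z, U) := (sectMap g hU).hom.toAlgebra
  intro K _ _
  let T := Spec.map (CommRingCat.ofHom (algebraMap k K))
  haveI : IsReduced (pullback g T) := GeometricallyReduced.geometrically_isReduced _ _ _ (.of_hasPullback g T)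
  have hg : Spec.map (CommRingCat.ofHom (algebraMap k Γ(Z, U))) = hU.fromSpec ≫ g := Spec.map_preimage _
  have P := isPullback_SpecMap_of_isPushout _ _ _ _ (CommRingCat.isPushout_tensorProduct k Γ(Z, U) K)
  rw [hg] at P
  have P2 := (IsPullback.of_hasPullback hU.fromSpec (pullback.fst g T)).paste_vert (IsPullback.of_hasPullback g T)
  haveI : IsReduced (pullback hU.fromSpec (pullback.fst g T)) := isReduced_of_isOpenImmersion (pullback.snd _ _)
  haveI : IsReduced (Spec (CommRingCat.of (Γ(Z, U) ⊗[k] K))) := by
    have P3 : IsPullback _ _ (hU.fromSpec ≫ g) T := P2.flip.flip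
    exact isReduced_of_isOpenImmersion (P.isoIsPullback _ _ P3).hom
  exact (affine_isReduced_iff (CommRingCat.of (Γ(Z, U) ⊗[k] K))).mp inferInstance

theorem good_residueField_generic {Z : Scheme.{u}} (g : Z ⟶ Spec (CommRingCat.of k)) [GeometricallyReduced g] [IsReduced Z]
    (η : Z) (hη : closure {η} ∈ irreducibleComponents Z) :
    letI : Algebra k (Z.residueField η) := (kappaMap g η).hom.toAlgebra
    Good k (Z.residueField η) := by
  letI : Algebra k (Z.residueField η) := (kappaMap g η).hom.toAlgebra
  obtain ⟨_, ⟨(U : Z.Opens), hU, rfl⟩, hηU, -⟩ :=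
    Z.isBasis_affineOpens.exists_subset_of_mem_open (Set.mem_univ η) isOpen_univ
  letI : Algebra k Γ(Z, U) := (sectMap g hU).hom.toAlgebra
  have hA := good_of_geometricallyReduced g hU
  letI : Algebra Γ(Z, U) (Z.presheaf.stalk η) := TopCat.Presheaf.algebra_section_stalk Z.presheaf ⟨η, hηU⟩
  haveI : IsLocalization.AtPrime (Z.presheaf.stalk η) (hU.primeIdealOf ⟨η, hηU⟩).asIdeal := hU.isLocalization_stalk ⟨η, hηU⟩
  letI : Algebra k (Z.presheaf.stalk η) := ((algebraMap Γ(Z, U) (Z.presheaf.stalk η)).comp (algebraMap k Γ(Z, U))).toAlgebra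
  haveI : IsScalarTower k Γ(Z, U) (Z.presheaf.stalk η) := IsScalarTower.of_algebraMap_eq' rfl
  have hE : Good k (Z.presheaf.stalk η) := hA.of_isLocalization (hU.primeIdealOf ⟨η, hηU⟩).asIdeal.primeCompl
  have hF := isField_stalk_of_closure_mem_irreducibleComponents Z η hη
  letI := hF.toField
  have hinj : Function.Injective (Z.residue η).hom := (Z.residue η).hom.injective
  let ε : Z.presheaf.stalk η ≃+* Z.residueField η := RingEquiv.ofBijective (Z.residue η).hom ⟨hinj, Z.residue_surjective η⟩
  let εa : Z.presheaf.stalk η ≃ₐ[k] Z.residueField η :=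
    { ε with commutes' := fun r => DFunLike.congr_fun (congrArg CommRingCat.Hom.hom (sectMap_evaluation g hU η hηU)) r }
  exact Good.of_injective εa.symm.toAlgHom εa.symm.injective hE

theorem good_residueField_of_mem {Z : Scheme.{u}} (z : Z ⟶ X) [IsClosedImmersion z] (u : Z) :
    (letI : Algebra k (Z.residueField u) := (kappaMap (z ≫ f) u).hom.toAlgebra; Good k (Z.residueField u)) ↔
      z u ∈ sepPts f := by
  letI : Algebra k (Z.residueField u) := (kappaMap (z ≫ f) u).hom.toAlgebra
  letI : Algebra k (X.residueField (z u)) := (kappaMap f (z u)).hom.toAlgebra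
  have h1 : kappaMap f (z u) ≫ z.residueFieldMap u = kappaMap (z ≫ f) u := by
    apply Spec.map_injective
    rw [Spec.map_comp, kappaMap, kappaMap, Spec.map_preimage, Spec.map_preimage,
      Scheme.Hom.SpecMap_residueFieldMap_fromSpecResidueField_assoc]
  let e : X.residueField (z u) ≃ₐ[k] Z.residueField u :=
    { RingEquiv.ofBijective _ (bijective_residueFieldMap z u) with
      commutes' := fun r => DFunLike.congr_fun (congrArg CommRingCat.Hom.hom h1) r }
  exact ⟨fun h => Good.of_injective e.toAlgHom e.injective h, fun h => Good.of_injective e.symm.toAlgHom e.symm.injective h⟩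

theorem main :
    ∃ (Z : Scheme.{u}) (z : Z ⟶ X), IsClosedImmersion z ∧ GeometricallyReduced (z ≫ f) ∧
      (∀ (k' : Type u) [Field k'] [Algebra k k'] [Algebra.IsGeometricallyReduced k k']
        (x : Spec (CommRingCat.of k') ⟶ X), x ≫ f = Spec.map (CommRingCat.ofHom (algebraMap k k')) →
        ∃ y : Spec (CommRingCat.of k') ⟶ Z, y ≫ z = x) ∧
      ∀ (Z' : Scheme.{u}) (z' : Z' ⟶ X), IsClosedImmersion z' → GeometricallyReduced (z' ≫ f) →
        (∀ (k' : Type u) [Field k'] [Algebra k k'] [Algebra.IsGeometricallyReduced k k']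
        (x : Spec (CommRingCat.of k') ⟶ X), x ≫ f = Spec.map (CommRingCat.ofHom (algebraMap k k')) →
        ∃ y : Spec (CommRingCat.of k') ⟶ Z', y ≫ z' = x) →
        ∃ e : Z' ≅ Z, e.hom ≫ z = z' := by
  let C : Closeds X := ⟨closure (sepPts f), isClosed_closure⟩
  let I := Scheme.IdealSheafData.vanishingIdeal C
  let z := I.subschemeι
  haveI : IsReduced I.subscheme := Groth.L18.isReduced_vanishingIdeal_subscheme C
  have hrange : Set.range z = closure (sepPts f) := by
    rw [Scheme.IdealSheafData.range_subschemeι, Scheme.IdealSheafData.coe_support_vanishingIdeal]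
    rfl
  refine ⟨I.subscheme, z, inferInstance, ?_, ?_, ?_⟩
  · refine geometricallyReduced_of_good _ fun U hU => ?_
    letI : Algebra k Γ(I.subscheme, U) := (sectMap (z ≫ f) hU).hom.toAlgebra
    let ι := {u : I.subscheme // u ∈ U ∧ z u ∈ sepPts f}
    letI : ∀ i : ι, Algebra k (I.subscheme.residueField i.1) := fun i => (kappaMap (z ≫ f) i.1).hom.toAlgebra
    refine good_of_separating (fun i : ι => I.subscheme.residueField i.1)
      (fun i => (good_residueField_of_mem f z i.1).2 i.2.2)
      (fun i => { (I.subscheme.evaluation U i.1 i.2.1).hom with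
        commutes' := fun r => DFunLike.congr_fun (congrArg CommRingCat.Hom.hom (sectMap_evaluation (z ≫ f) hU i.1 i.2.1)) r })
      fun a ha => ?_
    refine (basicOpen_eq_bot_iff a).1 ?_
    rw [eq_bot_iff]
    intro u hu
    exfalso
    have h2 : z u ∈ closure (sepPts f) := hrange ▸ ⟨u, rfl⟩
    obtain ⟨O, hO, hOe⟩ := z.isEmbedding.isInducing.isOpen_iff.1 (I.subscheme.basicOpen a).2
    obtain ⟨p, hpO, hp⟩ := mem_closure_iff.1 h2 O hO (show u ∈ z ⁻¹' O by rw [hOe]; exact hu)
    obtain ⟨v, rfl⟩ := hrange.symm.subset (subset_closure hp)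
    have hv : v ∈ I.subscheme.basicOpen a := hOe.subset hpO
    exact (Scheme.evaluation_eq_zero_iff_notMem_basicOpen _ v (I.subscheme.basicOpen_le a hv) a).1
      (ha ⟨v, I.subscheme.basicOpen_le a hv, hp⟩) hv
  · intro k' _ _ _ x hx
    haveI : IsReduced (Spec (CommRingCat.of k')) := inferInstance
    refine Groth.L16.exists_lift_subscheme_of_range_subset I x ?_
    rintro _ ⟨q, rfl⟩
    rw [show Set.range I.subschemeι = closure (sepPts f) from hrange]
    exact subset_closure (mem_sepPts_closedPoint f k' x hx
      (fun K _ _ => Groth.L06.NormalTensor.isReduced_tensor_of_geomReduced k' K) q)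
  · intro Z' z' _ hgr hlift
    haveI := hgr
    haveI : IsReduced Z' := GeometricallyReduced.isReduced_of_flat_of_isLocallyNoetherian (z' ≫ f)
    obtain ⟨l, hl⟩ := Groth.L16.exists_lift_subscheme_of_range_subset I z' (by
      rintro _ ⟨u, rfl⟩
      rw [show Set.range I.subschemeι = closure (sepPts f) from hrange]
      have hη := irreducibleComponent_mem_irreducibleComponents u
      let η := hη.1.genericPoint
      have hcl : closure {η} = irreducibleComponent u := hη.1.closure_genericPoint isClosed_irreducibleComponent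
      have h1 : z' η ∈ sepPts f :=
        (good_residueField_of_mem f z' η).1 (good_residueField_generic (z' ≫ f) η (hcl ▸ hη))
      have h2 : η ⤳ u := specializes_iff_mem_closure.2 (hcl ▸ mem_irreducibleComponent)
      exact (h2.map z'.continuous).mem_closed isClosed_closure (subset_closure h1))
    haveI : IsClosedImmersion (l ≫ z) := by rw [hl]; infer_instance
    haveI : IsClosedImmersion l := IsClosedImmersion.of_comp_isClosedImmersion l z
    have hsurj : Function.Surjective l := by
      intro w
      have h3 : closure (sepPts f) ⊆ Set.range z' := by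
        refine closure_minimal ?_ z'.isClosedEmbedding.isClosed_range
        intro p hp
        letI : Algebra k (X.residueField p) := (kappaMap f p).hom.toAlgebra
        haveI : Algebra.IsGeometricallyReduced k (X.residueField p) := by
          rw [Algebra.isGeometricallyReduced_field_iff]
          haveI := (show Good k (X.residueField p) from hp) (AlgebraicClosure k)
          exact isReduced_of_injective (Algebra.TensorProduct.comm k (AlgebraicClosure k) (X.residueField p)).toAlgHom
            (Algebra.TensorProduct.comm k (AlgebraicClosure k) (X.residueField p)).injective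
        obtain ⟨y, hy⟩ := hlift (X.residueField p) (X.fromSpecResidueField p) (Spec.map_preimage _).symm
        exact ⟨y default, by rw [← Scheme.Hom.comp_apply, hy, Scheme.fromSpecResidueField_apply]⟩
      obtain ⟨u, hu⟩ := h3 (hrange.subset ⟨w, rfl⟩)
      exact ⟨u, z.isEmbedding.injective (by rw [← Scheme.Hom.comp_apply, hl, hu])⟩
    haveI : IsIso l := Groth.L16.isIso_of_isClosedImmersion_surjective_reduced l hsurj
    exact ⟨asIso l, hl⟩

end Groth.L13.GeomRedSub
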